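import Mathlib.RingTheory.PowerSeries.Inverse
import Mathlib.RingTheory.PowerSeries.Derivative
import Mathlib.RingTheory.PowerSeries.Ideal
import Mathlib.RingTheory.MvPowerSeries.Equiv
import Mathlib.RingTheory.MvPowerSeries.Rename
import Mathlib.Algebra.MvPolynomial.PDeriv
import Mathlib.Tactic

/-!
Power series in two variables and the double point scheme of a parametrised plane branch:
if `g (a, b) = 0` then `g_b (a, b) = a' · C` with `C` integral, a unit exactly at simple points.
-/

open scoped PowerSeries
open MvPolynomial (aeval pderiv)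

namespace Groth.Funfld2.Plane

variable {k : Type*} [Field k]

/-- Two-variable power series, as series in `S` over series in `T`. -/
abbrev R2 (k : Type*) [Field k] := PowerSeries (PowerSeries k)

variable (k) in
/-- The variable `T`. -/
noncomputable def vT : R2 k := PowerSeries.C PowerSeries.X

variable (k) in
/-- The variable `S`. -/
noncomputable def vS : R2 k := PowerSeries.X

variable (k) in
/-- `f ↦ f(T)`. -/
noncomputable def inT : k⟦X⟧ →ₐ[k] R2 k :=
  { (PowerSeries.C : k⟦X⟧ →+* R2 k) with
    commutes' := fun c => (PowerSeries.algebraMap_apply (r := c)).symm }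

variable (k) in
/-- `f ↦ f(S)`. -/
noncomputable def inS : k⟦X⟧ →ₐ[k] R2 k :=
  { (PowerSeries.map (PowerSeries.C : k →+* k⟦X⟧)) with
    commutes' := fun c => by
      change PowerSeries.map _ (algebraMap k k⟦X⟧ c) = _
      rw [PowerSeries.algebraMap_apply (A := PowerSeries k), PowerSeries.algebraMap_eq,
        PowerSeries.map_C] }

theorem inT_X : inT k PowerSeries.X = vT k := rfl

theorem inS_X : inS k PowerSeries.X = vS k := PowerSeries.map_X _

/-- An endomorphism of `k⟦X⟧` fixing `X` is the identity. -/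
theorem algHom_eq_id {φ : k⟦X⟧ →ₐ[k] k⟦X⟧} (h : φ PowerSeries.X = PowerSeries.X) (f : k⟦X⟧) :
    φ f = f := by
  ext n
  obtain ⟨r, hr⟩ : PowerSeries.X ^ (n + 1) ∣ f - (f.trunc (n + 1) : k⟦X⟧) :=
    PowerSeries.X_pow_dvd_iff.2 fun m hm => by simp [Polynomial.coeff_coe, PowerSeries.coeff_trunc, hm]
  have hp : ∀ p : Polynomial k, φ (p : k⟦X⟧) = (p : k⟦X⟧) := fun p => by
    induction p using Polynomial.induction_on' with
    | add p q hp hq => simp [hp, hq]
    | monomial m a =>
      rw [← Polynomial.C_mul_X_pow_eq_monomial, Polynomial.coe_mul, Polynomial.coe_pow,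
        Polynomial.coe_X, Polynomial.coe_C, map_mul, map_pow, h, ← PowerSeries.algebraMap_eq,
        AlgHom.commutes]
  have h1 : φ f - f = PowerSeries.X ^ (n + 1) * (φ r - r) := by
    have := congrArg φ hr
    rw [map_sub, hp, map_mul, map_pow, h] at this
    linear_combination this - hr
  have h2 := congrArg (PowerSeries.coeff n) h1
  rw [map_sub, PowerSeries.coeff_X_pow_mul', if_neg (by omega)] at h2
  exact sub_eq_zero.1 h2

variable (k) in
/-- `R2` as series in two variables. -/
noncomputable def equivMv : MvPowerSeries (Fin 2) k ≃ₐ[k] R2 k :=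
  (MvPowerSeries.finSuccEquiv k 1).trans
    (AlgEquiv.ofAlgHom
      (PowerSeries.mapAlgHom (MvPowerSeries.renameEquiv k (Equiv.ofUnique (Fin 1) Unit)).toAlgHom)
      (PowerSeries.mapAlgHom (MvPowerSeries.renameEquiv k (Equiv.ofUnique (Fin 1) Unit)).symm.toAlgHom)
      (AlgHom.ext fun f => PowerSeries.ext fun n => by simp [PowerSeries.mapAlgHom_apply])
      (AlgHom.ext fun f => PowerSeries.ext fun n => by simp [PowerSeries.mapAlgHom_apply]))

variable (k) in
/-- The diagonal `h ↦ h(T, T)`. -/
noncomputable def diag : R2 k →ₐ[k] k⟦X⟧ :=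
  (MvPowerSeries.rename (R := k) fun _ : Fin 2 => ()).comp (equivMv k).symm.toAlgHom

theorem diag_vS : diag k (vS k) = PowerSeries.X := by
  have e : equivMv k (MvPowerSeries.X 0) = vS k := by
    simp [equivMv, vS, MvPowerSeries.finSuccEquiv_X_zero, PowerSeries.mapAlgHom_apply]
  rw [← e]
  simp [diag]
  rfl

theorem diag_vT : diag k (vT k) = PowerSeries.X := by
  have e : equivMv k (MvPowerSeries.X 1) = vT k := by
    have h1 : MvPowerSeries.finSuccEquiv k 1 (MvPowerSeries.X (0 : Fin 1).succ) =
        PowerSeries.C (MvPowerSeries.X 0) := MvPowerSeries.finSuccEquiv_X_succ _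
    simp [equivMv, vT, PowerSeries.mapAlgHom_apply, PowerSeries.X]
    rw [show (1 : Fin 2) = (0 : Fin 1).succ from rfl, h1]
    simp
  rw [← e]
  simp [diag]
  rfl

theorem diag_inT (f : k⟦X⟧) : diag k (inT k f) = f :=
  algHom_eq_id (φ := (diag k).comp (inT k)) (by rw [AlgHom.comp_apply, inT_X, diag_vT]) f

theorem diag_inS (f : k⟦X⟧) : diag k (inS k f) = f :=
  algHom_eq_id (φ := (diag k).comp (inS k)) (by rw [AlgHom.comp_apply, inS_X, diag_vS]) f

variable (k) in
/-- `h ↦ h(0, S)`. -/
noncomputable def atT0 : R2 k →+* k⟦X⟧ := PowerSeries.map (PowerSeries.constantCoeff (R := k))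

theorem atT0_inS (f : k⟦X⟧) : atT0 k (inS k f) = f := by
  ext n
  simp [atT0, inS]

theorem atT0_inT (f : k⟦X⟧) :
    atT0 k (inT k f) = PowerSeries.C (PowerSeries.constantCoeff f) := by
  simp [atT0, inT]

theorem atT0_vS : atT0 k (vS k) = PowerSeries.X := PowerSeries.map_X _

theorem atT0_vT : atT0 k (vT k) = 0 := by simp [atT0, vT]

/-- The divided difference `(f(S) - f(T)) / (S - T)`. -/
noncomputable def quot (f : k⟦X⟧) : R2 k :=
  PowerSeries.mk fun i => PowerSeries.mk fun j => PowerSeries.coeff (i + 1 + j) f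

theorem quot_spec (f : k⟦X⟧) : (vS k - vT k) * quot f = inS k f - inT k f := by
  ext i j
  rw [sub_mul, map_sub, map_sub, map_sub, map_sub]
  cases i with
  | zero =>
    cases j with
    | zero => simp [vS, vT, inS, inT, quot]
    | succ j =>
      simp [vS, vT, inS, inT, quot, PowerSeries.coeff_succ_X_mul, PowerSeries.coeff_C]
      rw [show 1 + j = j + 1 by omega]
  | succ i =>
    cases j with
    | zero => simp [vS, vT, inS, inT, quot, PowerSeries.coeff_succ_X_mul, PowerSeries.coeff_C]
    | succ j =>
      simp [vS, vT, inS, inT, quot, PowerSeries.coeff_succ_X_mul, PowerSeries.coeff_C]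
      rw [show i + 1 + (j + 1) = i + 1 + 1 + j by omega, sub_self]

theorem sub_ne_zero' : vS k - vT k ≠ 0 := fun h => by
  have := congrArg (atT0 k) h
  rw [map_sub, atT0_vS, atT0_vT, sub_zero, map_zero] at this
  exact PowerSeries.X_ne_zero this

/-- The diagonal of the divided difference is the derivative. -/
theorem diag_quot (f : k⟦X⟧) : diag k (quot f) = PowerSeries.derivative k f := by
  have cancel : ∀ {p q : R2 k}, (vS k - vT k) * p = (vS k - vT k) * q → p = q :=
    fun h => mul_left_cancel₀ sub_ne_zero' h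
  have hadd : ∀ f g : k⟦X⟧, quot (f + g) = quot f + quot g := fun f g => cancel (by
    rw [mul_add, quot_spec, quot_spec, quot_spec, map_add, map_add]; ring)
  have hC : ∀ c : k, quot (PowerSeries.C c) = 0 := fun c => cancel (by
    rw [mul_zero, quot_spec, ← PowerSeries.algebraMap_eq, AlgHom.commutes, AlgHom.commutes, sub_self])
  have hX : quot (PowerSeries.X : k⟦X⟧) = 1 := cancel (by rw [mul_one, quot_spec, inS_X, inT_X])
  have hmul : ∀ f g : k⟦X⟧, quot (f * g) = inS k f * quot g + inT k g * quot f := fun f g =>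
    cancel (by
      rw [quot_spec, mul_add, mul_left_comm _ (inS k f), quot_spec, mul_left_comm _ (inT k g),
        quot_spec, map_mul, map_mul]
      ring)
  have hp : ∀ p : Polynomial k,
      diag k (quot (p : k⟦X⟧)) = PowerSeries.derivative k (p : k⟦X⟧) := by
    intro p
    induction p using Polynomial.induction_on with
    | C a => simp [hC, Polynomial.coe_C]
    | add p q hp hq => rw [Polynomial.coe_add, hadd, map_add, hp, hq, map_add]
    | monomial m a hm =>
      rw [pow_succ, ← mul_assoc, Polynomial.coe_mul _ Polynomial.X, Polynomial.coe_X, hmul, hX,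
        map_add, map_mul, map_mul, diag_inS, diag_inT, hm, Derivation.leibniz, map_one,
        PowerSeries.derivative_X]
      simp
  ext n
  obtain ⟨r, hr⟩ : PowerSeries.X ^ (n + 2) ∣ f - (f.trunc (n + 2) : k⟦X⟧) :=
    PowerSeries.X_pow_dvd_iff.2 fun m hm => by simp [Polynomial.coeff_coe, PowerSeries.coeff_trunc, hm]
  rw [sub_eq_iff_eq_add'] at hr
  have h1 : PowerSeries.X ^ (n + 1) ∣ diag k (quot (PowerSeries.X ^ (n + 2) * r)) := by
    rw [hmul, map_add, map_mul, map_mul, diag_inS, diag_inT, pow_succ PowerSeries.X (n + 1), hmul,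
      hX, map_add, map_mul, map_mul, diag_inS, diag_inT, map_one]
    refine dvd_add (Dvd.dvd.mul_right (dvd_mul_right _ _) _) (Dvd.dvd.mul_left ?_ _)
    refine dvd_add (by simp) ?_
    have hk : ∀ m : ℕ, PowerSeries.X ^ m ∣
        PowerSeries.X * diag k (quot ((PowerSeries.X : k⟦X⟧) ^ m)) := by
      intro m
      induction m with
      | zero => simp
      | succ m ih =>
        rw [pow_succ, hmul, hX, map_add, map_mul, map_mul, diag_inS, diag_inT, map_one, mul_one,
          mul_add]
        refine dvd_add ⟨1, by ring⟩ ?_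
        rw [mul_left_comm, mul_comm (PowerSeries.X ^ m)]
        exact mul_dvd_mul_left _ ih
    exact hk (n + 1)
  have h2 : PowerSeries.X ^ (n + 1) ∣ PowerSeries.derivative k (PowerSeries.X ^ (n + 2) * r) := by
    rw [Derivation.leibniz, Derivation.leibniz_pow, PowerSeries.derivative_X]
    simp only [smul_eq_mul, mul_one, nsmul_eq_mul]
    refine dvd_add ?_ ⟨r * ((n + 2 : ℕ) : k⟦X⟧), by rw [show n + 2 - 1 = n + 1 by omega]; ring⟩
    exact Dvd.dvd.mul_right (pow_dvd_pow _ (by omega)) _
  rw [hr, hadd, map_add, map_add, hp, map_add, map_add,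
    PowerSeries.X_pow_dvd_iff.1 h1 n (by omega), PowerSeries.X_pow_dvd_iff.1 h2 n (by omega)]

section Difference

open MvPolynomial

variable {R S σ : Type*} [CommRing R] [Algebra k R] [CommRing S] [Algebra k S] [DecidableEq σ]

/-- A divided difference of a polynomial in one of its arguments. -/
theorem exists_diff (δ : R →ₐ[k] S) {v w : σ → R} {i : σ}
    (hvw : ∀ l, l ≠ i → v l = w l) (hi : δ (v i) = δ (w i)) (g : MvPolynomial σ k) :
    ∃ B : R, aeval w g - aeval v g = (w i - v i) * B ∧
      δ B = aeval (fun l => δ (v l)) (pderiv i g) ∧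
      ∀ (J : Ideal R) (c : σ → k), (∀ l, v l - algebraMap k R (c l) ∈ J) →
        (∀ l, w l - algebraMap k R (c l) ∈ J) →
        B - algebraMap k R (eval c (pderiv i g)) ∈ J := by
  induction g using MvPolynomial.induction_on with
  | C a => exact ⟨0, by simp, by simp, fun J c _ _ => by simp⟩
  | add p q hp hq =>
    obtain ⟨B, h1, h2, h3⟩ := hp
    obtain ⟨B', h1', h2', h3'⟩ := hq
    refine ⟨B + B', by rw [map_add, map_add]; linear_combination h1 + h1', by simp [h2, h2'],
      fun J c hv hw => ?_⟩
    rw [map_add, map_add, map_add, add_sub_add_comm]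
    exact J.add_mem (h3 J c hv hw) (h3' J c hv hw)
  | mul_X p j hp =>
    obtain ⟨B, h1, h2, h3⟩ := hp
    have hpv : ∀ (J : Ideal R) (c : σ → k), (∀ l, v l - algebraMap k R (c l) ∈ J) →
        aeval v p - algebraMap k R (eval c p) ∈ J := by
      intro J c hv
      clear h1 h2 h3 B
      induction p using MvPolynomial.induction_on with
      | C a => simp
      | add p q hp hq => rw [map_add, map_add, map_add, add_sub_add_comm]; exact J.add_mem hp hq
      | mul_X p l hp =>
        rw [map_mul, aeval_X, map_mul, eval_X, map_mul,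
          show aeval v p * v l - algebraMap k R (eval c p) * algebraMap k R (c l) =
            (aeval v p - algebraMap k R (eval c p)) * v l +
              algebraMap k R (eval c p) * (v l - algebraMap k R (c l)) by ring]
        exact J.add_mem (J.mul_mem_right _ hp) (J.mul_mem_left _ (hv l))
    by_cases hj : j = i
    · subst hj
      refine ⟨B * w j + aeval v p, ?_, ?_, fun J c hv hw => ?_⟩
      · rw [map_mul, map_mul, aeval_X, aeval_X]; linear_combination (w j) * h1
      · rw [map_add, map_mul, h2, ← hi, ← AlgHom.comp_apply δ, comp_aeval]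
        simp [pderiv_mul]
        ring
      · rw [pderiv_mul, pderiv_X_self, mul_one, map_add, map_mul, eval_X, map_add, map_mul,
          show B * w j + aeval v p - (algebraMap k R (eval c (pderiv j p)) * algebraMap k R (c j) +
              algebraMap k R (eval c p)) =
            (B - algebraMap k R (eval c (pderiv j p))) * w j +
              algebraMap k R (eval c (pderiv j p)) * (w j - algebraMap k R (c j)) +
              (aeval v p - algebraMap k R (eval c p)) by ring]
        exact J.add_mem (J.add_mem (J.mul_mem_right _ (h3 J c hv hw)) (J.mul_mem_left _ (hw j)))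
          (hpv J c hv)
    · refine ⟨B * v j, ?_, ?_, fun J c hv hw => ?_⟩
      · rw [map_mul, map_mul, aeval_X, aeval_X, ← hvw j hj]; linear_combination (v j) * h1
      · rw [map_mul, h2]
        simp [pderiv_mul, pderiv_X_of_ne hj]
        ring
      · rw [pderiv_mul, pderiv_X_of_ne hj, mul_zero, add_zero, map_mul, eval_X, map_mul,
          show B * v j - algebraMap k R (eval c (pderiv i p)) * algebraMap k R (c j) =
            (B - algebraMap k R (eval c (pderiv i p))) * v j +
              algebraMap k R (eval c (pderiv i p)) * (v j - algebraMap k R (c j)) by ring]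
        exact J.add_mem (J.mul_mem_right _ (h3 J c hv hw)) (J.mul_mem_left _ (hv j))

end Difference

theorem isUnit_iff (h : R2 k) :
    IsUnit h ↔ PowerSeries.constantCoeff (PowerSeries.constantCoeff h) ≠ 0 := by
  rw [PowerSeries.isUnit_iff_constantCoeff, PowerSeries.isUnit_iff_constantCoeff, isUnit_iff_ne_zero]

theorem isUnit_diag_iff (h : R2 k) : IsUnit (diag k h) ↔ IsUnit h := by
  refine ⟨fun hd => ?_, fun hh => hh.map (diag k)⟩
  by_contra hn
  rw [isUnit_iff, not_not] at hn
  obtain ⟨v, hv⟩ : PowerSeries.X ∣ h - PowerSeries.C (PowerSeries.constantCoeff h) :=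
    PowerSeries.X_dvd_iff.2 (by simp)
  obtain ⟨u, hu⟩ : PowerSeries.X ∣ PowerSeries.constantCoeff h := PowerSeries.X_dvd_iff.2 hn
  rw [sub_eq_iff_eq_add] at hv
  have e : h = vS k * v + vT k * inT k u := by
    nth_rw 1 [hv]
    rw [hu, map_mul]
    rfl
  rw [e, map_add, map_mul, map_mul, diag_vS, diag_vT, ← mul_add] at hd
  exact PowerSeries.X_prime.not_isUnit (isUnit_of_mul_isUnit_left hd)

variable (k) in
/-- The maximal ideal of the origin. -/
noncomputable def origin : Ideal (R2 k) := Ideal.span {vS k, vT k}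

theorem atT0_mem {m : ℕ} {h : R2 k} (hh : h ∈ origin k ^ m) : PowerSeries.X ^ m ∣ atT0 k h := by
  have h1 := Ideal.mem_map_of_mem (atT0 k) hh
  rw [Ideal.map_pow, origin, Ideal.map_span, Set.image_pair, atT0_vS, atT0_vT] at h1
  have e : Ideal.span ({PowerSeries.X, 0} : Set k⟦X⟧) = Ideal.span {PowerSeries.X} := by
    rw [Set.pair_comm]; exact Ideal.span_insert_zero
  rwa [e, Ideal.span_singleton_pow, Ideal.mem_span_singleton] at h1

theorem inT_mem {m : ℕ} {f : k⟦X⟧} (hf : PowerSeries.X ^ m ∣ f) : inT k f ∈ origin k ^ m := by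
  obtain ⟨r, rfl⟩ := hf
  rw [map_mul, map_pow, inT_X]
  exact Ideal.mul_mem_right _ _ (Ideal.pow_mem_pow (Ideal.subset_span (by simp)) m)

theorem inS_mem {m : ℕ} {f : k⟦X⟧} (hf : PowerSeries.X ^ m ∣ f) : inS k f ∈ origin k ^ m := by
  obtain ⟨r, rfl⟩ := hf
  rw [map_mul, map_pow, inS_X]
  exact Ideal.mul_mem_right _ _ (Ideal.pow_mem_pow (Ideal.subset_span (by simp)) m)

end Groth.Funfld2.Plane
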