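import Groth.Agent.Funfld2.Plane.Calculus
import Groth.Agent.Funfld2.Hasse.DegreeW
import Groth.Agent.FunFld1.MapDiv

/-! The adjoint divisor under a change of projective coordinates. -/

open FunFld Groth.FunFld1
open scoped LaurentSeries WithZero

namespace Groth.Funfld2.Plane

universe u

variable {k : Type u} [Field k] {K : Type*} [Field K] [Algebra k K] (hF : IsFF k K)
include hF

theorem val_le_exp_mapDiv {n : ℕ} (φ : Fin (n + 1) → K) (P : Place k K) (i : Fin (n + 1)) :
    P.1 (φ i) ≤ WithZero.exp (mapDiv k φ P) := by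
  rcases eq_or_ne (φ i) 0 with h | h
  · rw [h, map_zero]; exact zero_le
  · rw [Groth.Funfld2.val_le_exp_iff P h]
    exact hF.ord_ge_neg_mapDiv φ P i

theorem exists_val_eq_exp_mapDiv {n : ℕ} (φ : Fin (n + 1) → K) (h1 : φ 0 = 1) (P : Place k K) :
    ∃ i, P.1 (φ i) = WithZero.exp (mapDiv k φ P) := by
  obtain ⟨i, hi⟩ := hF.exists_ord_eq_neg_mapDiv φ P
  rcases eq_or_ne (φ i) 0 with h | h
  · refine ⟨0, ?_⟩
    rw [h, ord_zero P] at hi
    rw [h1, map_one, show mapDiv k φ P = 0 by omega, WithZero.exp_zero]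
  · exact ⟨i, by rw [Groth.Funfld2.val_eq_exp_ord P h, hi, neg_neg]⟩

/-- `mapDiv` of `v = A u` against that of `u / u₀`, both normalised by a first entry `1`. -/
theorem mapDiv_change {n : ℕ} {A : Matrix (Fin (n + 1)) (Fin (n + 1)) k} (hA : A.det ≠ 0)
    {u v w : Fin (n + 1) → K} (hv : v 0 = 1) (hw : w 0 = 1) (hu0 : u 0 ≠ 0)
    (huw : ∀ i, u i = u 0 * w i) (h : ∀ i, ∑ j, algebraMap k K (A i j) * u j = v i)
    (P : Place k K) : mapDiv k v P = mapDiv k w P - P.ord (u 0) := by
  classical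
  have hB : ∀ i, ∑ j, algebraMap k K (A⁻¹ i j) * v j = u i := by
    intro i
    simp only [← h, Finset.mul_sum, ← mul_assoc, ← map_mul]
    rw [Finset.sum_comm]
    simp only [← Finset.sum_mul, ← map_sum]
    rw [Finset.sum_congr rfl fun j _ => congrArg (fun c => algebraMap k K c * u j)
      ((Matrix.mul_apply (M := A⁻¹) (N := A)).symm.trans
        (congrFun (congrFun (Matrix.nonsing_inv_mul A hA.isUnit) i) j))]
    simp [Matrix.one_apply, apply_ite (algebraMap k K)]
  have hlin : ∀ (c : Fin (n + 1) → k) (z : Fin (n + 1) → K) (m : ℤ),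
      (∀ j, P.1 (z j) ≤ WithZero.exp m) → P.1 (∑ j, algebraMap k K (c j) * z j) ≤ WithZero.exp m :=
    fun c z m hz => P.1.map_sum_le fun j _ => by
      rw [map_mul]
      exact (mul_le_of_le_one_left' (P.2.1 (c j))).trans (hz j)
  have hu : ∀ i, P.1 (u i) ≤ WithZero.exp (mapDiv k w P - P.ord (u 0)) := fun i => by
    rw [huw i, map_mul, Groth.Funfld2.val_eq_exp_ord P hu0, sub_eq_neg_add, WithZero.exp_add]
    exact mul_le_mul' le_rfl (val_le_exp_mapDiv hF w P i)
  refine le_antisymm ?_ ?_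
  · obtain ⟨i, hi⟩ := exists_val_eq_exp_mapDiv hF v hv P
    rw [← WithZero.exp_le_exp, ← hi, ← h i]
    exact hlin _ _ _ hu
  · obtain ⟨i, hi⟩ := exists_val_eq_exp_mapDiv hF w hw P
    have h1 : P.1 (u i) = WithZero.exp (mapDiv k w P - P.ord (u 0)) := by
      rw [huw i, map_mul, hi, Groth.Funfld2.val_eq_exp_ord P hu0, ← WithZero.exp_add, neg_add_eq_sub]
    rw [← WithZero.exp_le_exp, ← h1, ← hB i]
    exact hlin _ _ _ (val_le_exp_mapDiv hF v P)

omit hF in
/-- The order of `a dx` only depends on the differential. -/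
theorem vDiff_congr {F : Type*} [Field F] [Algebra k F] (φ : K →ₐ[k] F⸨X⸩) {a b x x' : K}
    (h : a • KaehlerDifferential.D k K x = b • KaehlerDifferential.D k K x') :
    LocRes.vDiff φ a x = LocRes.vDiff φ b x' := by
  let _ := φ.toRingHom.toAlgebra
  have htower : IsScalarTower k K F⸨X⸩ := ⟨fun c p q => by
    change φ (c • p) * q = c • (φ p * q)
    rw [Algebra.smul_def, map_mul, LocRes.map_algebraMap, mul_assoc, HahnSeries.C_mul_eq_smul,
      algebraMap_smul]⟩
  have h1 := congrArg (LocRes.dExp φ).liftKaehlerDifferential h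
  rw [map_smul, map_smul, Derivation.liftKaehlerDifferential_comp_D,
    Derivation.liftKaehlerDifferential_comp_D] at h1
  exact congrArg Valued.v h1

omit hF in
theorem ordDiff_mul {F : Type*} [Field F] [Algebra k F] {P : Place k K} {φ : K →ₐ[k] F⸨X⸩}
    (hφ : LocRes.IsExpansionAt P.1 φ) {c a x : K} (hc : c ≠ 0) (h : LocRes.vDiff φ a x ≠ 0) :
    LocRes.vDiff φ (c * a) x ≠ 0 ∧
      LocRes.ordDiff φ (c * a) x = P.ord c + LocRes.ordDiff φ a x := by
  have e : LocRes.vDiff φ (c * a) x = P.1 c * LocRes.vDiff φ a x := by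
    rw [LocRes.vDiff, LocRes.vDiff, map_mul φ, mul_assoc, map_mul, hφ.1]
  have hne : LocRes.vDiff φ (c * a) x ≠ 0 := by
    rw [e]; exact mul_ne_zero ((Valuation.ne_zero_iff _).2 hc) h
  refine ⟨hne, ?_⟩
  rw [LocRes.ordDiff, LocRes.ordDiff, e, WithZero.log_mul ((Valuation.ne_zero_iff _).2 hc) h,
    Groth.Funfld2.val_eq_exp_ord P hc, WithZero.log_exp]
  ring

omit hF in
/-- The divisor of a nonzero differential has the expected coefficients. -/
theorem divDiff_eq [IsAlgClosed k] (hK : IsFunctionField k K)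
    {Φ : Place k K → (K →ₐ[k] LaurentSeries k)} (hΦ : ∀ P : Place k K, LocRes.IsExpansionAt P.1 (Φ P))
    {a x : K} (ha : a ≠ 0) (hx : KaehlerDifferential.D k K x ≠ 0) (P : Place k K) :
    LocRes.vDiff (Φ P) a x ≠ 0 ∧ divDiff Φ a x P = LocRes.ordDiff (Φ P) a x := by
  have hg : IsGeometric k K := Hasse.isGeometric_of_isAlgClosed
  obtain ⟨-, C, -, hCeq⟩ := Residue.exists_canonical hK Φ hΦ hg ha hx
  have hfin : (Function.support fun P : Place k K => LocRes.ordDiff (Φ P) a x).Finite :=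
    C.finite_support.subset fun P hP => by rwa [Function.mem_support, hCeq P]
  exact ⟨Residue.vDiff_ne_zero hK Φ hΦ hg ha hx P, by rw [divDiff, dif_pos hfin]; rfl⟩

end Groth.Funfld2.Plane
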