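import Groth.Agent.Funfld2.Plane.TwoVar

/-!
A parametrised branch of a plane curve: if `g (a, b) = 0` then `g_b (a, b) = a' · C` with `C`
integral, and `C` is a unit exactly when the point is simple.
-/

open scoped PowerSeries
open MvPolynomial (aeval pderiv)

namespace Groth.Funfld2.Plane

variable {k : Type*} [Field k] {a b : k⟦X⟧}

theorem aeval_pair_map {R : Type*} [CommRing R] [Algebra k R] (ι : k⟦X⟧ →ₐ[k] R)
    (r : MvPolynomial (Fin 2) k) : aeval ![ι a, ι b] r = ι (aeval ![a, b] r) := by
  rw [← AlgHom.comp_apply, MvPolynomial.comp_aeval]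
  congr 2
  funext l
  fin_cases l <;> rfl

theorem constantCoeff_atT0 (z : R2 k) :
    PowerSeries.constantCoeff (atT0 k z) = PowerSeries.constantCoeff (PowerSeries.constantCoeff z) := by
  rw [← PowerSeries.coeff_zero_eq_constantCoeff_apply, ← PowerSeries.coeff_zero_eq_constantCoeff_apply,
    atT0, PowerSeries.coeff_map, PowerSeries.coeff_zero_eq_constantCoeff_apply,
    PowerSeries.coeff_zero_eq_constantCoeff_apply]

/-- The divided differences of the coordinates of a birational branch are relatively prime. -/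
theorem isRelPrime_quot (ha : PowerSeries.derivative k a ≠ 0) {τ : k⟦X⟧}
    (hτ : PowerSeries.coeff 1 τ ≠ 0) {p q : MvPolynomial (Fin 2) k}
    (hpq : aeval ![a, b] p = τ * aeval ![a, b] q) (hq : aeval ![a, b] q ≠ 0) :
    IsRelPrime (quot a) (quot b) := by
  classical
  have hW0 : quot a ≠ 0 := fun e => ha (by rw [← diag_quot a, e, map_zero])
  refine (UniqueFactorizationMonoid.isRelPrime_iff_no_prime_factors hW0).2 fun π hπW hπV hπ => ?_
  have hcong : ∀ r : MvPolynomial (Fin 2) k,
      π ∣ inS k (aeval ![a, b] r) - inT k (aeval ![a, b] r) := by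
    intro r
    induction r using MvPolynomial.induction_on with
    | C c => rw [MvPolynomial.aeval_C, AlgHom.commutes, AlgHom.commutes, sub_self]; exact dvd_zero π
    | add p q hp hq =>
      rw [map_add (aeval ![a, b]), map_add (inS k), map_add (inT k), add_sub_add_comm]
      exact dvd_add hp hq
    | mul_X p l hp =>
      rw [map_mul (aeval ![a, b]), MvPolynomial.aeval_X, map_mul (inS k), map_mul (inT k),
        show inS k (aeval ![a, b] p) * inS k (![a, b] l) - inT k (aeval ![a, b] p) * inT k (![a, b] l) =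
          (inS k (aeval ![a, b] p) - inT k (aeval ![a, b] p)) * inS k (![a, b] l) +
            inT k (aeval ![a, b] p) * (inS k (![a, b] l) - inT k (![a, b] l)) by ring]
      refine dvd_add (Dvd.dvd.mul_right hp _) (Dvd.dvd.mul_left ?_ _)
      fin_cases l
      · show π ∣ inS k a - inT k a
        rw [← quot_spec]; exact Dvd.dvd.mul_left hπW _
      · show π ∣ inS k b - inT k b
        rw [← quot_spec]; exact Dvd.dvd.mul_left hπV _
  have h1 : π ∣ (vS k - vT k) * inT k (aeval ![a, b] q) := by
    have e : (vS k - vT k) * inT k (aeval ![a, b] q) * quot τ =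
        (inS k (aeval ![a, b] p) - inT k (aeval ![a, b] p)) -
          inS k τ * (inS k (aeval ![a, b] q) - inT k (aeval ![a, b] q)) := by
      rw [mul_right_comm, quot_spec, hpq, map_mul, map_mul]; ring
    have hu : IsUnit (quot τ) := (isUnit_iff _).2 (by simpa [quot] using hτ)
    rw [← hu.dvd_mul_right, e]
    exact dvd_sub (hcong p) (Dvd.dvd.mul_left (hcong q) _)
  rcases hπ.dvd_or_dvd h1 with h | h
  · obtain ⟨u, hu⟩ := h
    have e := congrArg (atT0 k) hu
    rw [map_sub, atT0_vS, atT0_vT, sub_zero, map_mul] at e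
    have hπ0 : ¬ IsUnit (atT0 k π) := fun hp => hπ.not_isUnit ((isUnit_iff π).2 (by
      rw [PowerSeries.isUnit_iff_constantCoeff] at hp
      rw [← constantCoeff_atT0]; exact hp.ne_zero))
    have hεu := ((PowerSeries.X_prime (R := k)).irreducible.isUnit_or_isUnit e).resolve_left hπ0
    have hu1 : IsUnit u := by
      rw [PowerSeries.isUnit_iff_constantCoeff] at hεu
      exact (isUnit_iff u).2 (by rw [← constantCoeff_atT0]; exact hεu.ne_zero)
    have h0 : diag k π = 0 := by
      have e := congrArg (diag k) hu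
      rw [map_sub, diag_vS, diag_vT, sub_self, map_mul] at e
      exact (mul_eq_zero.1 e.symm).resolve_right (hu1.map (diag k)).ne_zero
    obtain ⟨w, hw⟩ := hπW
    exact ha (by rw [← diag_quot a, hw, map_mul, h0, zero_mul])
  · have hu : IsUnit (PowerSeries.divXPowOrder (aeval ![a, b] q)) :=
      PowerSeries.isUnit_divided_by_X_pow_order hq
    rw [← PowerSeries.X_pow_order_mul_divXPowOrder (f := aeval ![a, b] q), map_mul, map_pow,
      inT_X] at h
    rcases hπ.dvd_or_dvd h with h | h
    · obtain ⟨w, hw⟩ := hπ.dvd_of_dvd_pow h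
      -- `π` is associated to `T`
      have hTirr : Irreducible (vT k) := by
        refine ⟨fun hu => ?_, fun x y hxy => ?_⟩
        · rw [isUnit_iff] at hu
          simp [vT] at hu
        · have e := congrArg (PowerSeries.constantCoeff (R := k⟦X⟧)) hxy
          rw [map_mul, vT, PowerSeries.constantCoeff_C] at e
          rcases (PowerSeries.X_prime (R := k)).irreducible.isUnit_or_isUnit e with hx | hy
          · exact Or.inl (PowerSeries.isUnit_iff_constantCoeff.2 hx)
          · exact Or.inr (PowerSeries.isUnit_iff_constantCoeff.2 hy)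
      obtain ⟨w0, hw0⟩ : vT k ∣ π := by
        obtain ⟨v, rfl⟩ := (hTirr.isUnit_or_isUnit hw).resolve_left hπ.not_unit
        exact ⟨↑v⁻¹, by rw [hw, mul_assoc, Units.mul_inv, mul_one]⟩
      obtain ⟨w', hw'⟩ := hπW
      have e := congrArg (atT0 k) (quot_spec a)
      rw [hw', hw0, map_mul, map_mul, map_mul, atT0_vT, zero_mul, zero_mul, mul_zero, map_sub,
        atT0_inS, atT0_inT, eq_comm, sub_eq_zero] at e
      exact ha (by rw [e]; simp)
    · exact hπ.not_isUnit (isUnit_of_dvd_unit h (hu.map (inT k)))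

/-- `g_b = a' · C`, with `C` a unit exactly at simple points. -/
theorem branch (ha : PowerSeries.derivative k a ≠ 0) {τ : k⟦X⟧} (hτ : PowerSeries.coeff 1 τ ≠ 0)
    {g p q : MvPolynomial (Fin 2) k}
    (hg : aeval ![a, b] g = 0) (hpq : aeval ![a, b] p = τ * aeval ![a, b] q)
    (hq : aeval ![a, b] q ≠ 0) {c : Fin 2 → k}
    (hca : PowerSeries.constantCoeff a = c 0) (hcb : PowerSeries.constantCoeff b = c 1) :
    ∃ C : k⟦X⟧, aeval ![a, b] (pderiv 1 g) = PowerSeries.derivative k a * C ∧
      (IsUnit C ↔ ¬ (MvPolynomial.eval c (pderiv 0 g) = 0 ∧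
        MvPolynomial.eval c (pderiv 1 g) = 0)) := by
  classical
  set vTT : Fin 2 → R2 k := ![inT k a, inT k b] with hTT
  set vTS : Fin 2 → R2 k := ![inT k a, inS k b] with hTS
  set vSS : Fin 2 → R2 k := ![inS k a, inS k b] with hSS
  have hgTT : aeval vTT g = 0 := by rw [hTT, aeval_pair_map, hg, map_zero]
  have hgSS : aeval vSS g = 0 := by rw [hSS, aeval_pair_map, hg, map_zero]
  obtain ⟨B, hB1, hB2, hB3⟩ := exists_diff (diag k) (v := vTT) (w := vTS) (i := 1)
    (fun l hl => by fin_cases l <;> simp_all [hTT, hTS])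
    (by simp [hTT, hTS, diag_inT, diag_inS]) g
  obtain ⟨A, hA1, -, hA3⟩ := exists_diff (diag k) (v := vTS) (w := vSS) (i := 0)
    (fun l hl => by fin_cases l <;> simp_all [hTS, hSS])
    (by simp [hTS, hSS, diag_inT, diag_inS]) g
  have hW0 : quot a ≠ 0 := fun e => ha (by rw [← diag_quot a, e, map_zero])
  have hVB : quot b * B = -(quot a * A) := by
    rw [hgTT, sub_zero] at hB1
    rw [hgSS, zero_sub] at hA1
    have eb : vTS 1 - vTT 1 = (vS k - vT k) * quot b := by simp [hTS, hTT, quot_spec]
    have ea : vSS 0 - vTS 0 = (vS k - vT k) * quot a := by simp [hTS, hSS, quot_spec]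
    rw [eb] at hB1
    rw [ea] at hA1
    refine mul_left_cancel₀ (sub_ne_zero' (k := k)) ?_
    linear_combination -hB1 - hA1
  have hdB : diag k B = aeval ![a, b] (pderiv 1 g) := by
    rw [hB2, show (fun l => diag k (vTT l)) = ![a, b] from funext fun l => by
      fin_cases l <;> simp [hTT, diag_inT]]
  obtain ⟨C, hC⟩ : quot a ∣ B :=
    (isRelPrime_quot ha hτ hpq hq).dvd_of_dvd_mul_left (hVB ▸ dvd_neg.2 (dvd_mul_right _ _))
  have hA : A = -(quot b * C) := mul_left_cancel₀ hW0 (by linear_combination hVB - quot b * hC)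
  refine ⟨diag k C, by rw [← hdB, hC, map_mul, diag_quot], ?_⟩
  rw [isUnit_diag_iff]
  set u := PowerSeries.constantCoeff (R := k⟦X⟧) with hu
  -- values at the origin, modulo powers of the maximal ideal
  have hmem : ∀ m : ℕ, PowerSeries.X ^ m ∣ a - PowerSeries.C (c 0) →
      PowerSeries.X ^ m ∣ b - PowerSeries.C (c 1) →
      B - algebraMap k _ (MvPolynomial.eval c (pderiv 1 g)) ∈ origin k ^ m ∧
        A - algebraMap k _ (MvPolynomial.eval c (pderiv 0 g)) ∈ origin k ^ m := by
    intro m h0 h1
    have hT : ∀ l, vTT l - algebraMap k (R2 k) (c l) ∈ origin k ^ m := fun l => by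
      fin_cases l
      · simpa [hTT, ← PowerSeries.algebraMap_eq] using inT_mem h0
      · simpa [hTT, ← PowerSeries.algebraMap_eq] using inT_mem h1
    have hS : ∀ l, vSS l - algebraMap k (R2 k) (c l) ∈ origin k ^ m := fun l => by
      fin_cases l
      · simpa [hSS, ← PowerSeries.algebraMap_eq] using inS_mem h0
      · simpa [hSS, ← PowerSeries.algebraMap_eq] using inS_mem h1
    have hM : ∀ l, vTS l - algebraMap k (R2 k) (c l) ∈ origin k ^ m := fun l => by
      fin_cases l
      · simpa [hTS, ← PowerSeries.algebraMap_eq] using inT_mem h0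
      · simpa [hTS, ← PowerSeries.algebraMap_eq] using inS_mem h1
    exact ⟨hB3 _ c hT hM, hA3 _ c hM hS⟩
  have hone : PowerSeries.X ^ 1 ∣ a - PowerSeries.C (c 0) ∧
      PowerSeries.X ^ 1 ∣ b - PowerSeries.C (c 1) := by
    simp [PowerSeries.X_dvd_iff, hca, hcb]
  constructor
  · rintro hCu ⟨hga, hgb⟩
    have hall : ∀ m : ℕ, PowerSeries.X ^ m ∣ a - PowerSeries.C (c 0) ∧
        PowerSeries.X ^ m ∣ b - PowerSeries.C (c 1) := by
      intro m
      induction m with
      | zero => simp
      | succ m ih =>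
        rcases Nat.eq_zero_or_pos m with rfl | hm
        · exact hone
        obtain ⟨hB', hA'⟩ := hmem m ih.1 ih.2
        rw [hgb, map_zero, sub_zero, hC] at hB'
        rw [hga, map_zero, sub_zero, hA, neg_mem_iff] at hA'
        have hstep : ∀ f : k⟦X⟧, quot f * C ∈ origin k ^ m →
            PowerSeries.X ^ (m + 1) ∣ f - PowerSeries.C (PowerSeries.constantCoeff f) := by
          intro f hf
          have h1 : quot f ∈ origin k ^ m := by
            obtain ⟨v, rfl⟩ := hCu
            have := Ideal.mul_mem_right ((↑v⁻¹ : R2 k)) _ hf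
            rwa [mul_assoc, Units.mul_inv, mul_one] at this
          have h2 : (vS k - vT k) * quot f ∈ origin k ^ (m + 1) := by
            rw [pow_succ']
            exact Ideal.mul_mem_mul (sub_mem (Ideal.subset_span (by simp))
              (Ideal.subset_span (by simp))) h1
          rw [quot_spec] at h2
          simpa [atT0_inS, atT0_inT] using atT0_mem h2
        exact ⟨hca ▸ hstep a hB', hcb ▸ hstep b hA'⟩
    refine ha ?_
    have : a = PowerSeries.C (c 0) := sub_eq_zero.1 (PowerSeries.ext fun n => by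
      rw [map_zero]
      exact PowerSeries.X_pow_dvd_iff.1 (hall (n + 1)).1 n (by omega))
    rw [this]; simp
  · intro hgrad
    by_contra hCu
    refine hgrad ?_
    rw [isUnit_iff, not_not] at hCu
    obtain ⟨hB', hA'⟩ := hmem 1 hone.1 hone.2
    have hzero : ∀ z ∈ origin k ^ 1, PowerSeries.constantCoeff (u z) = 0 := fun z hz => by
      have := PowerSeries.X_dvd_iff.1 (pow_one (PowerSeries.X : k⟦X⟧) ▸ atT0_mem hz)
      rw [hu, ← constantCoeff_atT0]
      exact this
    have h1 := hzero _ hA'
    have h2 := hzero _ hB'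
    rw [hA] at h1
    rw [hC] at h2
    simp [hu, hCu, PowerSeries.algebraMap_apply] at h1 h2
    exact ⟨h1, h2⟩

end Groth.Funfld2.Plane
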