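import Mathlib.RingTheory.MvPolynomial.EulerIdentity
import Mathlib.RingTheory.Kaehler.Basic
import Mathlib.LinearAlgebra.Matrix.Determinant.Basic
import Mathlib.Tactic

/-! Differentials along a plane curve and changes of projective coordinates. -/

open MvPolynomial

namespace Groth.Funfld2.Plane

/-- A derivation applied to the value of a polynomial. -/
theorem derivation_aeval {k R M σ : Type*} [CommRing k] [CommRing R] [Algebra k R]
    [AddCommGroup M] [Module R M] [Module k M] [IsScalarTower k R M] [Fintype σ]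
    (d : Derivation k R M) (v : σ → R) (p : MvPolynomial σ k) :
    d (aeval v p) = ∑ i, aeval v (pderiv i p) • d (v i) := by
  classical
  induction p using MvPolynomial.induction_on with
  | C a => simp
  | add p q hp hq => simp [hp, hq, add_smul, Finset.sum_add_distrib]
  | mul_X p j hp =>
    rw [map_mul, aeval_X, d.leibniz, hp, Finset.smul_sum]
    simp only [pderiv_mul, map_add, map_mul, aeval_X, add_smul, Finset.sum_add_distrib, smul_smul]
    rw [add_comm]
    congr 1
    · exact Finset.sum_congr rfl fun i _ => by rw [mul_comm]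
    · simp [pderiv_X, Pi.single_apply]

/-- Values of a homogeneous polynomial at proportional points. -/
theorem aeval_mul_of_isHomogeneous {k R σ : Type*} [CommRing k] [CommRing R] [Algebra k R]
    {p : MvPolynomial σ k} {n : ℕ} (hp : p.IsHomogeneous n) (t : R) (v : σ → R) :
    aeval (fun i => t * v i) p = t ^ n * aeval v p := by
  classical
  rw [aeval_def, aeval_def, eval₂_eq, eval₂_eq, Finset.mul_sum]
  refine Finset.sum_congr rfl fun d hd => ?_
  have hdeg : ∑ i ∈ d.support, d i = n := by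
    have h := hp (mem_support_iff.1 hd)
    rw [Finsupp.weight_apply] at h
    simpa [Finsupp.sum] using h
  simp only [mul_pow, Finset.prod_mul_distrib, Finset.prod_pow_eq_pow_sum, hdeg]
  ring

variable {k K : Type*} [Field k] [Field K] [Algebra k K]

/-- The differential `dx/f_y` under a change of projective coordinates, and the vanishing of the
transformed polynomial. -/
theorem differential_change (f : MvPolynomial (Fin 3) k) (e : ℕ) (hf : f.IsHomogeneous e)
    (x y : K) (hfxy : aeval ![(1 : K), x, y] f = 0) (A : Matrix (Fin 3) (Fin 3) k)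
    (u : Fin 3 → K) (hu : ∀ i, ∑ j, algebraMap k K (A i j) * u j = ![(1 : K), x, y] i)
    (hu0 : u 0 ≠ 0) (hfy : aeval ![(1 : K), x, y] (pderiv 2 f) ≠ 0)
    (hfy' : aeval ![(1 : K), u 1 / u 0, u 2 / u 0]
      (pderiv 2 (aeval (fun i : Fin 3 => ∑ j, C (A i j) * X j) f)) ≠ 0) :
    (aeval ![(1 : K), x, y] (pderiv 2 f))⁻¹ • KaehlerDifferential.D k K x =
      (algebraMap k K A.det * (u 0)⁻¹ ^ ((e : ℤ) - 3) *
        (aeval ![(1 : K), u 1 / u 0, u 2 / u 0]
          (pderiv 2 (aeval (fun i : Fin 3 => ∑ j, C (A i j) * X j) f)))⁻¹) •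
        KaehlerDifferential.D k K (u 1 / u 0) := by
  classical
  set v : Fin 3 → K := ![(1 : K), x, y] with hv
  set L : Fin 3 → MvPolynomial (Fin 3) k := fun i => ∑ j, C (A i j) * X j with hL
  set f' := aeval L f with hf'
  set w : Fin 3 → K := ![(1 : K), u 1 / u 0, u 2 / u 0] with hw
  set a : Fin 3 → Fin 3 → K := fun i j => algebraMap k K (A i j) with ha
  set g : Fin 3 → K := fun i => aeval v (pderiv i f) with hg
  set dd := KaehlerDifferential.D k K with hdd
  -- the transformed derivative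
  have hev : ∀ p : MvPolynomial (Fin 3) k, aeval u (aeval L p) = aeval v p := fun p => by
    rw [← AlgHom.comp_apply, comp_aeval]
    congr 2
    funext i
    simp only [hL, map_sum, map_mul, aeval_C, aeval_X]
    exact hu i
  have hchain : aeval u (pderiv 2 f') = ∑ i, g i * a i 2 := by
    have hLd : ∀ i, pderiv (2 : Fin 3) (L i) = C (A i 2) := fun i => by
      simp [hL, pderiv_mul, pderiv_X, Pi.single_apply]
    rw [hf', derivation_aeval (pderiv (2 : Fin 3)) L f, map_sum]
    refine Finset.sum_congr rfl fun i _ => ?_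
    rw [smul_eq_mul, map_mul, hev, hLd, aeval_C]
  have hhom : f'.IsHomogeneous e := by
    have := hf.aeval L (n := 1) fun i => IsHomogeneous.sum _ _ _ fun j _ =>
      isHomogeneous_C_mul_X (A i j) j
    rwa [one_mul] at this
  have hscale : aeval u (pderiv 2 f') = u 0 ^ (e - 1) * aeval w (pderiv 2 f') := by
    rw [← aeval_mul_of_isHomogeneous hhom.pderiv (u 0) w]
    congr 2
    funext i
    fin_cases i <;> simp [hw, mul_div_cancel₀ _ hu0]
  have he : 1 ≤ e := by
    rcases Nat.eq_zero_or_pos e with h | h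
    · rw [h, ← totalDegree_zero_iff_isHomogeneous, totalDegree_eq_zero_iff_eq_C] at hhom
      exact absurd (by rw [hhom, pderiv_C, map_zero]) hfy'
    · exact h
  -- Euler and the differential of the relation
  have heul : g 0 + x * g 1 + y * g 2 = 0 := by
    have h := congrArg (aeval v) hf.sum_X_mul_pderiv
    rw [map_sum, map_nsmul, hfxy, smul_zero] at h
    simp only [Fin.sum_univ_three, map_mul, aeval_X] at h
    simpa [hv, hg] using h
  have hrel : g 1 • dd x + g 2 • dd y = 0 := by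
    have h := derivation_aeval dd v f
    rw [hfxy, map_zero, Fin.sum_univ_three] at h
    simpa [hv, hg] using h.symm
  have hdy : dd y = -(g 1 / g 2) • dd x := by
    have h := congrArg (fun z => (g 2)⁻¹ • z) hrel
    simp only [smul_add, smul_smul, smul_zero, inv_mul_cancel₀ (show g 2 ≠ 0 from hfy), one_smul] at h
    rw [eq_neg_of_add_eq_zero_right h, neg_smul, div_eq_inv_mul]
  -- coordinates
  have e0 : a 0 0 * u 0 + a 0 1 * u 1 + a 0 2 * u 2 = 1 := by
    simpa [hv, ha, Fin.sum_univ_three] using hu 0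
  have e1 : a 1 0 * u 0 + a 1 1 * u 1 + a 1 2 * u 2 = x := by
    simpa [hv, ha, Fin.sum_univ_three] using hu 1
  have e2 : a 2 0 * u 0 + a 2 1 * u 1 + a 2 2 * u 2 = y := by
    simpa [hv, ha, Fin.sum_univ_three] using hu 2
  have hlin : ∀ i, dd (a i 0 * u 0 + a i 1 * u 1 + a i 2 * u 2) =
      a i 0 • dd (u 0) + a i 1 • dd (u 1) + a i 2 • dd (u 2) := fun i => by
    simp [ha, Derivation.leibniz]
  have d0 : a 0 0 • dd (u 0) + a 0 1 • dd (u 1) + a 0 2 • dd (u 2) = 0 := by
    rw [← hlin, e0, Derivation.map_one_eq_zero]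
  have d1 : a 1 0 • dd (u 0) + a 1 1 • dd (u 1) + a 1 2 • dd (u 2) = dd x := by rw [← hlin, e1]
  have d2 : a 2 0 • dd (u 0) + a 2 1 • dd (u 1) + a 2 2 • dd (u 2) = dd y := by rw [← hlin, e2]
  have hdet : algebraMap k K A.det =
      a 0 0 * a 1 1 * a 2 2 - a 0 0 * a 1 2 * a 2 1 - a 0 1 * a 1 0 * a 2 2 +
      a 0 1 * a 1 2 * a 2 0 + a 0 2 * a 1 0 * a 2 1 - a 0 2 * a 1 1 * a 2 0 := by
    simp [Matrix.det_fin_three, ha]
  -- both sides of the cross-product identity
  have hcross : (a 0 2) • (x • dd y - y • dd x) - a 1 2 • dd y + a 2 2 • dd x =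
      algebraMap k K A.det • (u 0 • dd (u 1) - u 1 • dd (u 0)) := by
    rw [← d1, ← d2, ← e1, ← e2, hdet]
    have h3 : a 0 2 • dd (u 2) = -(a 0 0 • dd (u 0) + a 0 1 • dd (u 1)) :=
      eq_neg_of_add_eq_zero_right d0
    have key : (a 0 2) • ((a 1 0 * u 0 + a 1 1 * u 1 + a 1 2 * u 2) •
          (a 2 0 • dd (u 0) + a 2 1 • dd (u 1) + a 2 2 • dd (u 2)) -
        (a 2 0 * u 0 + a 2 1 * u 1 + a 2 2 * u 2) •
          (a 1 0 • dd (u 0) + a 1 1 • dd (u 1) + a 1 2 • dd (u 2))) -
        (a 0 0 * u 0 + a 0 1 * u 1 + a 0 2 * u 2) • a 1 2 •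
          (a 2 0 • dd (u 0) + a 2 1 • dd (u 1) + a 2 2 • dd (u 2)) +
        (a 0 0 * u 0 + a 0 1 * u 1 + a 0 2 * u 2) • a 2 2 •
          (a 1 0 • dd (u 0) + a 1 1 • dd (u 1) + a 1 2 • dd (u 2)) +
        (a 1 2 * (a 2 0 * u 0 + a 2 1 * u 1 + a 2 2 * u 2) -
          a 2 2 * (a 1 0 * u 0 + a 1 1 * u 1 + a 1 2 * u 2)) •
          (a 0 0 • dd (u 0) + a 0 1 • dd (u 1) + a 0 2 • dd (u 2)) =
      (a 0 0 * a 1 1 * a 2 2 - a 0 0 * a 1 2 * a 2 1 - a 0 1 * a 1 0 * a 2 2 +
        a 0 1 * a 1 2 * a 2 0 + a 0 2 * a 1 0 * a 2 1 - a 0 2 * a 1 1 * a 2 0) •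
        (u 0 • dd (u 1) - u 1 • dd (u 0)) := by
      match_scalars <;> ring
    rw [e0, d0] at key
    simpa using key
  have hx' : dd (u 1 / u 0) = (u 0 ^ 2)⁻¹ • (u 0 • dd (u 1) - u 1 • dd (u 0)) := by
    rw [div_eq_mul_inv, Derivation.leibniz, Derivation.leibniz_inv]
    match_scalars <;> field_simp
  have hlhs : (a 0 2) • (x • dd y - y • dd x) - a 1 2 • dd y + a 2 2 • dd x =
      ((g 2)⁻¹ * ∑ i, g i * a i 2) • dd x := by
    rw [hdy, Fin.sum_univ_three, show g 0 = -(x * g 1 + y * g 2) by linear_combination heul]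
    have hg2 : g 2 ≠ 0 := hfy
    match_scalars
    field_simp
    ring
  rw [hlhs, ← hchain, hscale] at hcross
  have hmain := congrArg (fun z => (u 0 ^ (e - 1) * aeval w (pderiv 2 f'))⁻¹ • z) hcross
  have hne : u 0 ^ (e - 1) * aeval w (pderiv 2 f') ≠ 0 := mul_ne_zero (pow_ne_zero _ hu0) hfy'
  change (g 2)⁻¹ • dd x = _
  simp only [smul_smul] at hmain
  rw [show (u 0 ^ (e - 1) * aeval w (pderiv 2 f'))⁻¹ *
    ((g 2)⁻¹ * (u 0 ^ (e - 1) * aeval w (pderiv 2 f'))) = (g 2)⁻¹ by field_simp] at hmain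
  rw [hmain, hx', smul_smul]
  congr 1
  have hpow : (u 0)⁻¹ ^ ((e : ℤ) - 3) = u 0 ^ 2 * (u 0 ^ (e - 1))⁻¹ := by
    rw [inv_zpow', neg_sub, ← zpow_natCast (u 0) 2, ← zpow_natCast (u 0) (e - 1), ← zpow_neg,
      ← zpow_add₀ hu0]
    congr 1
    omega
  rw [hpow]
  field_simp

end Groth.Funfld2.Plane
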