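import Groth.Agent.Funfld2.Plane.LocalCurve

/-! Homogenisation and affine charts of a plane relation. -/

open MvPolynomial

namespace Groth.Funfld2.Plane

variable {k : Type*} [CommRing k]

/-- Homogenise a relation in two variables to degree `e`. -/
theorem exists_homogenize (f : MvPolynomial (Fin 2) k) {e : ℕ} (he : f.totalDegree = e) :
    ∃ F : MvPolynomial (Fin 3) k, F.IsHomogeneous e ∧
      ∀ {R : Type*} [CommRing R] [Algebra k R] (a b : R),
        aeval ![(1 : R), a, b] F = aeval ![a, b] f ∧
          aeval ![(1 : R), a, b] (pderiv 2 F) = aeval ![a, b] (pderiv 1 f) := by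
  refine ⟨∑ i ∈ Finset.range (e + 1), X 0 ^ (e - i) * rename Fin.succ (homogeneousComponent i f),
    IsHomogeneous.sum _ _ _ fun i hi => ?_, fun {R} _ _ a b => ?_⟩
  · have h := ((isHomogeneous_X k (0 : Fin 3)).pow (e - i)).mul
      ((homogeneousComponent_isHomogeneous i f).rename_isHomogeneous (f := Fin.succ))
    have hi' := Finset.mem_range.1 hi
    rwa [show 1 * (e - i) + i = e by omega] at h
  · have hval : ∀ p : MvPolynomial (Fin 2) k,
        aeval ![(1 : R), a, b] (rename Fin.succ p) = aeval ![a, b] p := fun p => by
      rw [aeval_rename]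
      congr 2
    have hsum : ∑ i ∈ Finset.range (e + 1), homogeneousComponent i f = f :=
      he ▸ sum_homogeneousComponent f
    refine ⟨?_, ?_⟩
    · rw [map_sum]
      conv_rhs => rw [← hsum, map_sum]
      refine Finset.sum_congr rfl fun i _ => ?_
      rw [map_mul, map_pow, aeval_X, hval]
      simp
    · rw [map_sum, map_sum]
      conv_rhs => rw [← hsum, map_sum, map_sum]
      refine Finset.sum_congr rfl fun i _ => ?_
      rw [pderiv_mul, pderiv_pow, pderiv_X_of_ne (by decide : (2 : Fin 3) ≠ 0).symm, mul_zero,
        zero_mul, zero_add,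
        show pderiv (2 : Fin 3) (rename Fin.succ (homogeneousComponent i f)) =
          rename Fin.succ (pderiv 1 (homogeneousComponent i f)) from
          pderiv_rename (Fin.succ_injective 2) (1 : Fin 2) _,
        map_mul, map_pow, aeval_X, hval]
      simp

theorem totalDegree_aeval_le {σ τ : Type*} (L : σ → MvPolynomial τ k)
    (hL : ∀ i, (L i).totalDegree ≤ 1) (p : MvPolynomial σ k) :
    (aeval L p).totalDegree ≤ p.totalDegree := by
  classical
  conv_lhs => rw [p.as_sum, map_sum]
  refine totalDegree_finsetSum_le fun d hd => ?_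
  rw [aeval_monomial, Finsupp.prod, ← C_eq_algebraMap]
  refine (totalDegree_mul _ _).trans ?_
  rw [totalDegree_C, zero_add]
  refine (totalDegree_finsetProd _ _).trans ((Finset.sum_le_sum fun i _ => ?_).trans
    (le_totalDegree hd))
  exact (totalDegree_pow _ _).trans (mul_le_of_le_one_right' (hL i))

end Groth.Funfld2.Plane
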