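import Groth.Agent.Funfld2.Plane.Branch
import Groth.Agent.Funfld2.Plane.Adjoint
import Groth.Agent.FunFld1.Nonsingular
import Groth.Agent.FunFld1.PlaneKernel

/-! An affine chart of a plane model at one place. -/

open FunFld Groth.FunFld1
open scoped LaurentSeries WithZero
open MvPolynomial (aeval pderiv eval)

namespace Groth.Funfld2.Plane

universe u

variable {k : Type u} [Field k] {K : Type*} [Field K] [Algebra k K]

theorem val_aeval_sub_eval (P : Place k K) {a b : K} {c : Fin 2 → k}
    (ha : P.1 (a - algebraMap k K (c 0)) < 1) (hb : P.1 (b - algebraMap k K (c 1)) < 1)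
    (r : MvPolynomial (Fin 2) k) :
    P.1 (aeval ![a, b] r - algebraMap k K (eval c r)) < 1 := by
  have hone : ∀ l, P.1 (![a, b] l) ≤ 1 := fun l => by
    have key : ∀ z (d : k), P.1 (z - algebraMap k K d) < 1 → P.1 z ≤ 1 := fun z d hz => by
      rw [show z = (z - algebraMap k K d) + algebraMap k K d by ring]
      exact Valuation.map_add_le _ hz.le (P.2.1 d)
    fin_cases l
    · exact key a _ ha
    · exact key b _ hb
  induction r using MvPolynomial.induction_on with
  | C x => simp
  | add p q hp hq =>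
    rw [map_add, map_add, map_add, add_sub_add_comm]
    exact Valuation.map_add_lt _ hp hq
  | mul_X p l hp =>
    rw [map_mul, MvPolynomial.aeval_X, map_mul, MvPolynomial.eval_X, map_mul,
      show aeval ![a, b] p * ![a, b] l - algebraMap k K (eval c p) * algebraMap k K (c l) =
        (aeval ![a, b] p - algebraMap k K (eval c p)) * ![a, b] l +
          algebraMap k K (eval c p) * (![a, b] l - algebraMap k K (c l)) by ring]
    refine Valuation.map_add_lt _ ?_ ?_
    · rw [map_mul]; exact (mul_le_of_le_one_right' (hone l)).trans_lt hp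
    · rw [map_mul]
      refine (mul_le_of_le_one_left' (P.2.1 _)).trans_lt ?_
      fin_cases l
      · exact ha
      · exact hb

theorem val_aeval_eq_one (P : Place k K) {a b : K} {c : Fin 2 → k}
    (ha : P.1 (a - algebraMap k K (c 0)) < 1) (hb : P.1 (b - algebraMap k K (c 1)) < 1)
    {r : MvPolynomial (Fin 2) k} (hr : eval c r ≠ 0) : P.1 (aeval ![a, b] r) = 1 := by
  have h := val_aeval_sub_eval P ha hb r
  have h1 := Groth.Funfld2.val_algebraMap P hr
  rw [show aeval ![a, b] r =
    (aeval ![a, b] r - algebraMap k K (eval c r)) + algebraMap k K (eval c r) by ring,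
    Valuation.map_add_eq_of_lt_right P.1 (by
      rw [h1]; exact val_aeval_sub_eval P ha hb r), h1]

/-- Every polynomial is `r(c) + (X₀ - c₀) r₀ + (X₁ - c₁) r₁`. -/
theorem exists_decomp (c : Fin 2 → k) (r : MvPolynomial (Fin 2) k) :
    ∃ r₀ r₁ : MvPolynomial (Fin 2) k, r = MvPolynomial.C (eval c r) +
      (MvPolynomial.X 0 - MvPolynomial.C (c 0)) * r₀ +
      (MvPolynomial.X 1 - MvPolynomial.C (c 1)) * r₁ := by
  induction r using MvPolynomial.induction_on with
  | C x => exact ⟨0, 0, by simp⟩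
  | add p q hp hq =>
    obtain ⟨p₀, p₁, hp⟩ := hp
    obtain ⟨q₀, q₁, hq⟩ := hq
    exact ⟨p₀ + q₀, p₁ + q₁, by rw [map_add, map_add]; linear_combination hp + hq⟩
  | mul_X p l hp =>
    obtain ⟨p₀, p₁, hp⟩ := hp
    fin_cases l
    · refine ⟨p₀ * MvPolynomial.X 0 + MvPolynomial.C (eval c p), p₁ * MvPolynomial.X 0, ?_⟩
      simp only [Fin.zero_eta, map_mul, MvPolynomial.eval_X]
      linear_combination (MvPolynomial.X 0 : MvPolynomial (Fin 2) k) * hp
    · refine ⟨p₀ * MvPolynomial.X 1, p₁ * MvPolynomial.X 1 + MvPolynomial.C (eval c p), ?_⟩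
      simp only [Fin.mk_one, map_mul, MvPolynomial.eval_X]
      linear_combination (MvPolynomial.X 1 : MvPolynomial (Fin 2) k) * hp

section Chart

variable [IsAlgClosed k] (hK : IsFunctionField k K) {a b : K}
  (hgen : IntermediateField.adjoin k ({a, b} : Set K) = ⊤) {g : MvPolynomial (Fin 2) k}
  (hker : RingHom.ker (aeval ![a, b] : MvPolynomial (Fin 2) k →ₐ[k] K) = Ideal.span {g})
  {c : Fin 2 → k}

include hgen in
omit [IsAlgClosed k] in
theorem exists_frac (z : K) : ∃ r s : MvPolynomial (Fin 2) k,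
    aeval ![a, b] s ≠ 0 ∧ z * aeval ![a, b] s = aeval ![a, b] r := by
  have hz : z ∈ IntermediateField.adjoin k (Set.range ![a, b]) := by
    rw [Matrix.range_cons_cons_empty, hgen]; trivial
  obtain ⟨r, hr, s, hs, rfl⟩ := IntermediateField.mem_adjoin_iff_div.1 hz
  rw [Algebra.adjoin_range_eq_range_aeval] at hr hs
  obtain ⟨r, rfl⟩ := hr
  obtain ⟨s, rfl⟩ := hs
  by_cases h : aeval ![a, b] s = 0
  · exact ⟨0, 1, by simp, by simp [h]⟩
  · exact ⟨r, s, h, div_mul_cancel₀ _ h⟩

include hK hker hgen in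
/-- A simple point: the coordinates separate and give a parameter. -/
theorem sepParam_of_grad {P : Place k K} (hPa : P.1 (a - algebraMap k K (c 0)) < 1)
    (hPb : P.1 (b - algebraMap k K (c 1)) < 1)
    (hgrad : ¬ (eval c (pderiv 0 g) = 0 ∧ eval c (pderiv 1 g) = 0)) :
    SepParam ![a, b] P := by
  classical
  have hg : aeval ![a, b] g = 0 := by
    rw [← RingHom.mem_ker, hker]; exact Ideal.mem_span_singleton_self g
  have hgc : eval c g = 0 := by
    by_contra h
    have := val_aeval_eq_one P hPa hPb h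
    rw [hg, map_zero] at this
    exact zero_ne_one this
  obtain ⟨g₀, g₁, hg01⟩ := exists_decomp c g
  rw [hgc, map_zero, zero_add] at hg01
  have hgrad' : ¬ (eval c g₀ = 0 ∧ eval c g₁ = 0) := by
    intro h
    refine hgrad ⟨?_, ?_⟩ <;> rw [hg01] <;>
      simp [MvPolynomial.pderiv_mul, MvPolynomial.pderiv_X, Pi.single_apply, h.1, h.2]
  -- coordinate `δ`, and `ε` a multiple of it by a unit fraction
  obtain ⟨δ, U, V, hδ, hU, hrel⟩ : ∃ (δ : MvPolynomial (Fin 2) k) (U V : MvPolynomial (Fin 2) k),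
      eval c δ = 0 ∧ eval c U ≠ 0 ∧ ∀ r : MvPolynomial (Fin 2) k, eval c r = 0 →
        ∃ r', aeval ![a, b] (r * U) = aeval ![a, b] (δ * r') := by
    have hrel0 : (a - algebraMap k K (c 0)) * aeval ![a, b] g₀ +
        (b - algebraMap k K (c 1)) * aeval ![a, b] g₁ = 0 := by
      have := congrArg (aeval ![a, b]) hg01
      rw [hg] at this
      simpa using this.symm
    by_cases h1 : eval c g₁ = 0
    · refine ⟨MvPolynomial.X 1 - MvPolynomial.C (c 1), g₀, g₁, by simp,
        fun h0 => hgrad' ⟨h0, h1⟩, fun r hr => ?_⟩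
      obtain ⟨r₀, r₁, hr'⟩ := exists_decomp c r
      rw [hr, map_zero, zero_add] at hr'
      refine ⟨r₁ * g₀ - r₀ * g₁, ?_⟩
      rw [hr']
      simp only [map_mul, map_add, map_sub, MvPolynomial.aeval_X, MvPolynomial.aeval_C,
        Matrix.cons_val_zero, Matrix.cons_val_one, Matrix.cons_val_fin_one]
      linear_combination (aeval ![a, b] r₀) * hrel0
    · refine ⟨MvPolynomial.X 0 - MvPolynomial.C (c 0), g₁, g₀, by simp, h1, fun r hr => ?_⟩
      obtain ⟨r₀, r₁, hr'⟩ := exists_decomp c r
      rw [hr, map_zero, zero_add] at hr'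
      refine ⟨r₀ * g₁ - r₁ * g₀, ?_⟩
      rw [hr']
      simp only [map_mul, map_add, map_sub, MvPolynomial.aeval_X, MvPolynomial.aeval_C,
        Matrix.cons_val_zero, Matrix.cons_val_one, Matrix.cons_val_fin_one]
      linear_combination (aeval ![a, b] r₁) * hrel0
  set d := aeval ![a, b] δ with hd
  have hdlt : ∀ R : Place k K, R.1 (a - algebraMap k K (c 0)) < 1 →
      R.1 (b - algebraMap k K (c 1)) < 1 → R.1 d < 1 := fun R h0 h1 => by
    have := val_aeval_sub_eval R h0 h1 δ
    rwa [hδ, map_zero, sub_zero] at this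
  have hd0 : d ≠ 0 := by
    intro h0
    -- otherwise every element of `k[a, b]` is constant at `P`
    obtain ⟨t, -, ht⟩ := exists_uniformizer P
    obtain ⟨r, s, hs, hrs⟩ := exists_frac hgen t
    have hall : ∀ r, aeval ![a, b] r = 0 ∨ P.1 (aeval ![a, b] r) = 1 := fun r => by
      by_cases hr : eval c r = 0
      · obtain ⟨r', hr'⟩ := hrel r hr
        rw [map_mul, map_mul, ← hd, h0, zero_mul] at hr'
        refine Or.inl ((mul_eq_zero.1 hr').resolve_right fun e => ?_)
        have := val_aeval_eq_one P hPa hPb hU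
        rw [e, map_zero] at this
        exact zero_ne_one this
      · exact Or.inr (val_aeval_eq_one P hPa hPb hr)
    have h1 := congrArg P.1 hrs
    rw [map_mul, ht, (hall s).resolve_left hs, mul_one] at h1
    rcases hall r with e | e
    · rw [e, map_zero] at h1; exact WithZero.exp_ne_zero h1
    · rw [e, ← WithZero.exp_zero, WithZero.exp_inj] at h1; omega
  -- values on `k[a, b]` are powers of the value of `d`, the same at every place with this centre
  have key : ∀ n : ℕ, ∀ r : MvPolynomial (Fin 2) k, aeval ![a, b] r ≠ 0 →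
      P.ord (aeval ![a, b] r) ≤ n → ∃ m : ℕ, ∀ R : Place k K,
        R.1 (a - algebraMap k K (c 0)) < 1 → R.1 (b - algebraMap k K (c 1)) < 1 →
          R.1 (aeval ![a, b] r) = R.1 d ^ m := by
    intro n
    induction n using Nat.strong_induction_on with
    | _ n ih =>
      intro r hr hn
      by_cases hrc : eval c r = 0
      · obtain ⟨r', hr'⟩ := hrel r hrc
        rw [map_mul, map_mul, ← hd] at hr'
        have hU1 : ∀ R : Place k K, R.1 (a - algebraMap k K (c 0)) < 1 →
            R.1 (b - algebraMap k K (c 1)) < 1 → R.1 (aeval ![a, b] U) = 1 :=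
          fun R h0 h1 => val_aeval_eq_one R h0 h1 hU
        have hUne : aeval ![a, b] U ≠ 0 := ne_zero_of_val_eq (n := 0)
          (by rw [hU1 P hPa hPb, WithZero.exp_zero])
        have hr'0 : aeval ![a, b] r' ≠ 0 := fun e => by
          rw [e, mul_zero] at hr'
          exact mul_ne_zero hr hUne hr'
        have hord : P.ord (aeval ![a, b] r') < P.ord (aeval ![a, b] r) := by
          have h1 := congrArg P.ord hr'
          rw [ord_mul P hr hUne, ord_mul P hd0 hr'0,
            (val_eq_one_iff P hUne).1 (hU1 P hPa hPb)] at h1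
          have := (Groth.Funfld2.val_lt_one_iff_ord P hd0).1 (hdlt P hPa hPb)
          omega
        have hnn : 0 ≤ P.ord (aeval ![a, b] r') := by
          rw [← val_le_one_iff]
          have := val_aeval_sub_eval P hPa hPb r'
          rw [show aeval ![a, b] r' = (aeval ![a, b] r' - algebraMap k K (eval c r')) +
            algebraMap k K (eval c r') by ring]
          exact Valuation.map_add_le _ this.le (P.2.1 _)
        obtain ⟨m, hm⟩ := ih (P.ord (aeval ![a, b] r')).toNat (by omega) r' hr'0 (by omega)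
        refine ⟨m + 1, fun R h0 h1 => ?_⟩
        have h2 := congrArg R.1 hr'
        rw [map_mul, map_mul, hU1 R h0 h1, mul_one, hm R h0 h1] at h2
        rw [h2, pow_succ']
      · exact ⟨0, fun R h0 h1 => by rw [pow_zero, val_aeval_eq_one R h0 h1 hrc]⟩
  have hpow : ∀ r : MvPolynomial (Fin 2) k, aeval ![a, b] r ≠ 0 → ∃ m : ℕ, ∀ R : Place k K,
      R.1 (a - algebraMap k K (c 0)) < 1 → R.1 (b - algebraMap k K (c 1)) < 1 →
        R.1 (aeval ![a, b] r) = R.1 d ^ m := fun r hr =>
    key (P.ord (aeval ![a, b] r)).toNat r hr (Int.self_le_toNat _)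
  have hmem : ∀ r : MvPolynomial (Fin 2) k, aeval ![a, b] r ∈ Algebra.adjoin k (Set.range ![a, b]) :=
    fun r => Algebra.adjoin_range_eq_range_aeval k ![a, b] ▸ ⟨r, rfl⟩
  constructor
  · refine ⟨d, hmem δ, ?_⟩
    obtain ⟨t, -, ht⟩ := exists_uniformizer P
    obtain ⟨r, s, hs, hrs⟩ := exists_frac hgen t
    have hr0 : aeval ![a, b] r ≠ 0 := hrs ▸ mul_ne_zero (ne_zero_of_val_eq ht) hs
    obtain ⟨mr, hmr⟩ := hpow r hr0
    obtain ⟨ms, hms⟩ := hpow s hs
    have h1 := congrArg P.1 hrs
    rw [map_mul, ht, hmr P hPa hPb, hms P hPa hPb, Groth.Funfld2.val_eq_exp_ord P hd0,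
      ← WithZero.exp_nsmul, ← WithZero.exp_nsmul, ← WithZero.exp_add, WithZero.exp_inj] at h1
    have hpos := (Groth.Funfld2.val_lt_one_iff_ord P hd0).1 (hdlt P hPa hPb)
    rw [Groth.Funfld2.val_eq_exp_ord P hd0, WithZero.exp_inj]
    simp only [smul_neg, nsmul_eq_mul] at h1
    have h2 : ((mr : ℤ) - ms) * P.ord d = 1 := by linarith
    rcases Int.eq_one_or_neg_one_of_mul_eq_one' h2 with h | h <;> omega
  · intro Q hQ hQaff
    by_cases hc : Q.1 (a - algebraMap k K (c 0)) < 1 ∧ Q.1 (b - algebraMap k K (c 1)) < 1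
    · -- same centre: the same place
      refine absurd (Place.eq_of_forall_le_one P Q fun z hz => ?_).symm hQ
      rcases eq_or_ne z 0 with rfl | hz0
      · simp
      obtain ⟨r, s, hs, hrs⟩ := exists_frac hgen z
      have hr0 : aeval ![a, b] r ≠ 0 := hrs ▸ mul_ne_zero hz0 hs
      obtain ⟨mr, hmr⟩ := hpow r hr0
      obtain ⟨ms, hms⟩ := hpow s hs
      have hle : ms ≤ mr := by
        by_contra hlt
        have h1 := congrArg P.1 hrs
        rw [map_mul, hmr P hPa hPb, hms P hPa hPb] at h1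
        have h2 : P.1 d ^ mr ≤ P.1 d ^ ms := h1 ▸ mul_le_of_le_one_left' hz
        exact absurd h2 (not_le.2 (pow_lt_pow_right_of_lt_one₀
          (zero_lt_iff.2 ((Valuation.ne_zero_iff _).2 hd0)) (hdlt P hPa hPb) (not_le.1 hlt)))
      have h1 := congrArg Q.1 hrs
      rw [map_mul, hmr Q hc.1 hc.2, hms Q hc.1 hc.2, ← Nat.sub_add_cancel hle, pow_add] at h1
      rw [mul_right_cancel₀ (pow_ne_zero _ ((Valuation.ne_zero_iff _).2 hd0)) h1]
      exact pow_le_one₀ zero_le (hdlt Q hc.1 hc.2).le
    · -- different centre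
      obtain ⟨l, hl⟩ : ∃ l : Fin 2, ¬ Q.1 (![a, b] l - algebraMap k K (c l)) < 1 := by
        by_contra! h
        exact hc ⟨h 0, h 1⟩
      obtain ⟨c', hc'⟩ := exists_const_sub_lt_one (P := Q)
        (deg_eq_one_of_isAlgClosed (IsFF.of_isFunctionField hK) Q) (hQaff l)
      have hcc : c l - c' ≠ 0 := fun e => hl (by rwa [sub_eq_zero.1 e])
      refine ⟨algebraMap k K (c l - c')⁻¹ * (![a, b] l - algebraMap k K c'),
        mul_mem (Subalgebra.algebraMap_mem _ _) (sub_mem (Algebra.subset_adjoin ⟨l, rfl⟩)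
          (Subalgebra.algebraMap_mem _ _)), ?_, ?_⟩
      · have e : algebraMap k K (c l - c')⁻¹ * (![a, b] l - algebraMap k K c') - 1 =
            algebraMap k K (c l - c')⁻¹ * (![a, b] l - algebraMap k K (c l)) := by
          have : algebraMap k K (c l - c')⁻¹ * (algebraMap k K (c l) - algebraMap k K c') = 1 := by
            rw [← map_sub, ← map_mul, inv_mul_cancel₀ hcc, map_one]
          linear_combination this
        rw [e, map_mul]
        refine (mul_le_of_le_one_left' (P.2.1 _)).trans_lt ?_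
        fin_cases l
        · exact hPa
        · exact hPb
      · rw [map_mul]
        exact (mul_le_of_le_one_left' (Q.2.1 _)).trans_lt hc'

omit [IsAlgClosed k] in
theorem range_ratios (a b : K) :
    Algebra.adjoin k (Set.range (ratios ![(1 : K), a, b] 0)) =
      Algebra.adjoin k (Set.range ![a, b]) := by
  refine le_antisymm (Algebra.adjoin_le ?_) (Algebra.adjoin_le ?_)
  · rintro _ ⟨i, rfl⟩
    fin_cases i
    · simp [ratios]
    · exact Algebra.subset_adjoin ⟨0, by simp [ratios]⟩
    · exact Algebra.subset_adjoin ⟨1, by simp [ratios]⟩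
  · rintro _ ⟨i, rfl⟩
    fin_cases i
    · exact Algebra.subset_adjoin ⟨1, by simp [ratios]⟩
    · exact Algebra.subset_adjoin ⟨2, by simp [ratios]⟩

include hK hker hgen in
/-- An affine point is nonsingular exactly when the gradient is nonzero there. -/
theorem isNonsingularAt_iff_grad {P : Place k K} (hPa : P.1 (a - algebraMap k K (c 0)) < 1)
    (hPb : P.1 (b - algebraMap k K (c 1)) < 1) (hne : a ≠ algebraMap k K (c 0)) :
    IsNonsingularAt ![(1 : K), a, b] P ↔
      ¬ (eval c (pderiv 0 g) = 0 ∧ eval c (pderiv 1 g) = 0) := by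
  classical
  have hone : ∀ z (d : k), P.1 (z - algebraMap k K d) < 1 → P.1 z ≤ 1 := fun z d hz => by
    rw [show z = (z - algebraMap k K d) + algebraMap k K d by ring]
    exact Valuation.map_add_le _ hz.le (P.2.1 d)
  have hj : IsMin ![(1 : K), a, b] P 0 := ⟨by simp, fun i => by
    fin_cases i <;> simp [hone a _ hPa, hone b _ hPb]⟩
  constructor
  · intro hns hgrad
    -- the quotient of the two coordinates, the larger below
    obtain ⟨l, m, hlm, hl0, hle⟩ : ∃ l m : Fin 2, l ≠ m ∧
        ![a, b] l - algebraMap k K (c l) ≠ 0 ∧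
        P.1 (![a, b] m - algebraMap k K (c m)) ≤ P.1 (![a, b] l - algebraMap k K (c l)) := by
      rcases le_total (P.1 (b - algebraMap k K (c 1))) (P.1 (a - algebraMap k K (c 0))) with h | h
      · exact ⟨0, 1, by decide, sub_ne_zero.2 hne, h⟩
      · refine ⟨1, 0, by decide, fun e => ?_, h⟩
        simp only [Matrix.cons_val_one, Matrix.cons_val_fin_one] at e
        rw [e, map_zero, le_zero_iff, map_eq_zero] at h
        exact sub_ne_zero.2 hne h
    set z := (![a, b] m - algebraMap k K (c m)) / (![a, b] l - algebraMap k K (c l)) with hz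
    have hz1 : P.1 z ≤ 1 := by
      rw [hz, map_div₀]
      exact div_le_one_of_le₀ hle zero_le
    obtain ⟨u, hu, w, hw, hw1, hzw⟩ := inLocRing_at (hns z hz1) hj
    rw [range_ratios, Algebra.adjoin_range_eq_range_aeval] at hu hw
    obtain ⟨r, rfl⟩ := hu
    obtain ⟨s, rfl⟩ := hw
    have hsc : eval c s ≠ 0 := fun h => by
      have h1 := val_aeval_sub_eval P hPa hPb s
      rw [h, map_zero, sub_zero] at h1
      rw [show P.1 (aeval ![a, b] s) = 1 from hw1] at h1
      exact lt_irrefl _ h1
    have hmem : (MvPolynomial.X m - MvPolynomial.C (c m)) * s -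
        (MvPolynomial.X l - MvPolynomial.C (c l)) * r ∈
          RingHom.ker (aeval ![a, b] : MvPolynomial (Fin 2) k →ₐ[k] K) := by
      rw [RingHom.mem_ker, map_sub, map_mul, map_mul, map_sub, map_sub, MvPolynomial.aeval_X,
        MvPolynomial.aeval_X, MvPolynomial.aeval_C, MvPolynomial.aeval_C]
      change _ - _ * (aeval ![a, b]) r = 0
      rw [← show z * aeval ![a, b] s = aeval ![a, b] r from hzw, hz]
      field_simp
      ring
    rw [hker, Ideal.mem_span_singleton'] at hmem
    obtain ⟨h, hh⟩ := hmem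
    have hgc : eval c g = 0 := by
      by_contra h0
      have := val_aeval_eq_one P hPa hPb h0
      rw [show aeval ![a, b] g = 0 by
        rw [← RingHom.mem_ker, hker]; exact Ideal.mem_span_singleton_self g, map_zero] at this
      exact zero_ne_one this
    have hd : eval c (pderiv m g) = 0 := by fin_cases m <;> [exact hgrad.1; exact hgrad.2]
    have e := congrArg (fun p => eval c (pderiv m p)) hh
    simp [MvPolynomial.pderiv_mul, MvPolynomial.pderiv_X_self, MvPolynomial.pderiv_X_of_ne hlm.symm,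
      MvPolynomial.pderiv_X_of_ne hlm, hgc, hd] at e
    exact hsc e.symm
  · intro hgrad
    have hd := deg_eq_one_of_isAlgClosed (IsFF.of_isFunctionField hK)
    obtain ⟨⟨t, ht, htP⟩, hsep⟩ := sepParam_of_grad hK hgen hker hPa hPb hgrad
    refine nonsingular_of_sepParam hK hd hj ⟨⟨t, range_ratios (k := k) a b ▸ ht, htP⟩,
      fun Q hQ hQa => ?_⟩
    obtain ⟨e, he, h1, h2⟩ := hsep Q hQ (fun i => by
      fin_cases i
      · simpa [ratios] using hQa 1
      · simpa [ratios] using hQa 2)
    exact ⟨e, range_ratios (k := k) a b ▸ he, h1, h2⟩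

include hK hker hgen in
/-- The order of `da/g_b` at an affine place: at most `0`, with equality exactly at simple points. -/
theorem chart_ordDiff {P : Place k K} {Φ : K →ₐ[k] LaurentSeries k}
    (hΦ : LocRes.IsExpansionAt P.1 Φ) (hPa : P.1 (a - algebraMap k K (c 0)) < 1)
    (hPb : P.1 (b - algebraMap k K (c 1)) < 1)
    (hne : LocRes.vDiff Φ (aeval ![a, b] (pderiv 1 g))⁻¹ a ≠ 0) :
    LocRes.ordDiff Φ (aeval ![a, b] (pderiv 1 g))⁻¹ a ≤ 0 ∧
      (LocRes.ordDiff Φ (aeval ![a, b] (pderiv 1 g))⁻¹ a = 0 ↔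
        IsNonsingularAt ![(1 : K), a, b] P) := by
  classical
  have hone : ∀ z (d : k), P.1 (z - algebraMap k K d) < 1 → P.1 z ≤ 1 := fun z d hz => by
    rw [show z = (z - algebraMap k K d) + algebraMap k K d by ring]
    exact Valuation.map_add_le _ hz.le (P.2.1 d)
  have hser : ∀ z : K, P.1 z ≤ 1 → ∃ f : PowerSeries k, (f : k⸨X⸩) = Φ z := fun z hz => by
    obtain ⟨f, hf⟩ := (LaurentSeries.val_le_one_iff_eq_coe k (Φ z)).1 (by rwa [hΦ.1])
    exact ⟨f, hf⟩
  have hcoeff : ∀ (z : K) (d : k) (f : PowerSeries k), (f : k⸨X⸩) = Φ z →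
      P.1 (z - algebraMap k K d) < 1 → PowerSeries.constantCoeff f = d := by
    intro z d f hf hzd
    have h1 : Valued.v (Φ (z - algebraMap k K d)) ≤ WithZero.exp (-(1 : ℤ)) := by
      rw [hΦ.1]; exact Groth.FunFld1.lt_one_iff_le_exp_neg_one.1 hzd
    have h2 := (LaurentSeries.valuation_le_iff_coeff_lt_eq_zero k).1 h1 0 (by norm_num)
    rw [map_sub, LocRes.map_algebraMap, ← hf, HahnSeries.coeff_sub, Algebra.algebraMap_self,
      RingHom.id_apply, sub_eq_zero] at h2
    rw [← PowerSeries.coeff_zero_eq_constantCoeff_apply, ← LaurentSeries.coeff_coe_powerSeries]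
    simpa [HahnSeries.C, HahnSeries.coeff_single] using h2
  obtain ⟨α, hα⟩ := hser a (hone a _ hPa)
  obtain ⟨β, hβ⟩ := hser b (hone b _ hPb)
  have hev : ∀ r : MvPolynomial (Fin 2) k,
      ((aeval ![α, β] r : PowerSeries k) : k⸨X⸩) = Φ (aeval ![a, b] r) := by
    intro r
    induction r using MvPolynomial.induction_on with
    | C x =>
      rw [MvPolynomial.aeval_C, MvPolynomial.aeval_C, LocRes.map_algebraMap, Algebra.algebraMap_self,
        RingHom.id_apply, PowerSeries.algebraMap_eq, HahnSeries.ofPowerSeries_C]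
    | add p q hp hq => rw [map_add, map_add, map_add, map_add, hp, hq]
    | mul_X p l hp =>
      rw [map_mul, map_mul, map_mul, map_mul, hp, MvPolynomial.aeval_X, MvPolynomial.aeval_X]
      fin_cases l <;> simp [hα, hβ]
  have hD : LocRes.D k (Φ a) ≠ 0 := fun h => hne (by rw [LocRes.vDiff, h, mul_zero, map_zero])
  have hα' : PowerSeries.derivative k α ≠ 0 := fun h => hD (by
    rw [← hα, LocRes.D_coe, h, map_zero])
  obtain ⟨t, -, ht⟩ := exists_uniformizer P
  obtain ⟨τ, hτ⟩ := hser t (by rw [ht, ← WithZero.exp_zero, WithZero.exp_le_exp]; omega)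
  have hτ1 : PowerSeries.coeff 1 τ ≠ 0 := fun h => by
    have hv : Valued.v (Φ t) = WithZero.exp (-(1 : ℤ)) := (hΦ.1 t).trans ht
    have h2 : Valued.v (Φ t) ≤ WithZero.exp (-(2 : ℤ)) :=
      (LaurentSeries.valuation_le_iff_coeff_lt_eq_zero k).2 fun i hi => by
        rcases lt_or_eq_of_le (show i ≤ 1 by omega) with hl | he
        · exact (LaurentSeries.valuation_le_iff_coeff_lt_eq_zero k).1 hv.le i hl
        · rw [he, ← hτ, ← h]
          exact LaurentSeries.coeff_coe_powerSeries τ 1
    rw [hv, WithZero.exp_le_exp] at h2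
    omega
  obtain ⟨r, s, hs, hrs⟩ := exists_frac hgen t
  have hinj : ∀ z : K, Φ z = 0 → z = 0 := fun z hz => by
    by_contra h0
    have h1 := hΦ.1 z
    rw [hz, map_zero, eq_comm, map_eq_zero] at h1
    exact h0 h1
  have hs' : aeval ![α, β] s ≠ 0 := fun h => hs (hinj _ (by rw [← hev, h, map_zero]))
  have hinjc : Function.Injective ((↑) : PowerSeries k → k⸨X⸩) := HahnSeries.ofPowerSeries_injective
  have hpq : aeval ![α, β] r = τ * aeval ![α, β] s := hinjc (by
    rw [map_mul, hev, hev, hτ, ← map_mul, hrs])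
  have hg0 : aeval ![α, β] g = 0 := hinjc (by
    rw [hev, map_zero, show aeval ![a, b] g = 0 by
      rw [← RingHom.mem_ker, hker]; exact Ideal.mem_span_singleton_self g, map_zero])
  obtain ⟨C, hC, hCu⟩ := branch hα' hτ1 hg0 hpq hs' (c := c) (hcoeff a _ α hα hPa)
    (hcoeff b _ β hβ hPb)
  have hne' : a ≠ algebraMap k K (c 0) := fun h => hD (by
    rw [h, LocRes.map_algebraMap, LocRes.D_apply, LocRes.derivative_C])
  rw [isNonsingularAt_iff_grad hK hgen hker hPa hPb hne', ← hCu]
  have hv : LocRes.vDiff Φ (aeval ![a, b] (pderiv 1 g))⁻¹ a = (Valued.v (C : k⸨X⸩))⁻¹ := by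
    rw [LocRes.vDiff, map_inv₀, ← hev, hC, map_mul, map_mul, map_inv₀, map_mul, ← hα, LocRes.D_coe]
    have h0 : Valued.v ((PowerSeries.derivative k α : PowerSeries k) : k⸨X⸩) ≠ 0 := by
      rw [Valuation.ne_zero_iff]; exact fun h => hα' (hinjc (h.trans (map_zero _).symm))
    field_simp
  have hCne : Valued.v (C : k⸨X⸩) ≠ 0 := fun h => hne (by rw [hv, h, inv_zero])
  have hle : Valued.v (C : k⸨X⸩) ≤ (1 : ℤᵐ⁰) :=
    (LaurentSeries.val_le_one_iff_eq_coe k _).2 ⟨C, rfl⟩
  have hord : LocRes.ordDiff Φ (aeval ![a, b] (pderiv 1 g))⁻¹ a =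
      WithZero.log (Valued.v (C : k⸨X⸩)) := by
    rw [LocRes.ordDiff, hv, WithZero.log_inv, neg_neg]
  rw [hord]
  obtain ⟨n, hn⟩ : ∃ n : ℤ, Valued.v (C : k⸨X⸩) = WithZero.exp n :=
    ⟨_, (WithZero.exp_log hCne).symm⟩
  rw [hn, ← WithZero.exp_zero, WithZero.exp_le_exp] at hle
  rw [hn, WithZero.log_exp]
  refine ⟨hle, fun h => ?_, fun hu => ?_⟩
  · rw [PowerSeries.isUnit_iff_constantCoeff, isUnit_iff_ne_zero]
    intro h0
    have : Valued.v (C : k⸨X⸩) ≤ WithZero.exp (-(1 : ℤ)) :=
      (LaurentSeries.valuation_le_iff_coeff_lt_eq_zero k).2 fun i hi => by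
        rcases lt_or_eq_of_le (show i ≤ 0 by omega) with hl | he
        · exact (LaurentSeries.valuation_le_iff_coeff_lt_eq_zero k).1
            (show Valued.v (C : k⸨X⸩) ≤ WithZero.exp (-(0 : ℤ)) by
              rw [hn, WithZero.exp_le_exp]; omega) i hl
        · rw [he, ← h0, ← PowerSeries.coeff_zero_eq_constantCoeff_apply]
          exact LaurentSeries.coeff_coe_powerSeries C 0
    rw [hn, h, WithZero.exp_le_exp] at this
    omega
  · by_contra h
    have h1 := (LaurentSeries.valuation_le_iff_coeff_lt_eq_zero k).1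
      (show Valued.v (C : k⸨X⸩) ≤ WithZero.exp (-(1 : ℤ)) by rw [hn, WithZero.exp_le_exp]; omega)
      0 (by norm_num)
    rw [PowerSeries.isUnit_iff_constantCoeff, isUnit_iff_ne_zero] at hu
    refine hu ?_
    rw [← PowerSeries.coeff_zero_eq_constantCoeff_apply, ← LaurentSeries.coeff_coe_powerSeries]
    exact h1

end Chart

end Groth.Funfld2.Plane
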